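import Cfsg.Agent.H254.FxEvenTI
import Cfsg.Agent.LargeExtra.W2.LFour.PslFacts
import Cfsg.Agent.H956.EigBasis

/-!
# Fixity 4 for `PSL(3, 3)`: the matrix rules (task 2053, for S3002, S2993)
-/

set_option autoImplicit false
set_option maxRecDepth 10000

namespace Cfsg.Agent.H752.LThree

open Matrix Cfsg.Agent.H254.Ev

/-- among five elements `a` with `a⁻¹ x a ∈ H` two lie in the same coset of `H` -/
theorem pigeon {G : Type*} [Group G] [Finite G] {H : Subgroup G} (h : FixLE 4 H) {x : G} (hx1 : x ≠ 1)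
    (a : Fin 5 → G) (ha : ∀ i, (a i)⁻¹ * x * a i ∈ H) : ∃ i j, i < j ∧ (a i)⁻¹ * a j ∈ H := by
  have h1 := h x hx1
  let f : Fin 5 → MulAction.fixedBy (G ⧸ H) x := fun i => ⟨(a i : G ⧸ H), (mk_mem_fixedBy x (a i)).2 (ha i)⟩
  have hni : ¬ Function.Injective f := by
    intro hf
    have h2 := Nat.card_le_card_of_injective f hf
    rw [Nat.card_fin, Nat.card_coe_set_eq] at h2
    omega
  rw [Function.Injective] at hni
  push Not at hni
  obtain ⟨i, j, hij, hne⟩ := hni
  have key : ∀ i j, f i = f j → (a i)⁻¹ * a j ∈ H := fun i j hij => QuotientGroup.eq.1 (congrArg Subtype.val hij)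
  rcases lt_or_gt_of_ne hne with h2 | h2
  · exact ⟨i, j, h2, key i j hij⟩
  · exact ⟨j, i, h2, key j i hij.symm⟩

abbrev M := Matrix (Fin 3) (Fin 3) (ZMod 3)

/-- the rules for the set of matrices lying over a subgroup of `PSL(3, 3)` of fixity at most 4 -/
structure PK (K : Set M) : Prop where
  one : (1 : M) ∈ K
  mul : ∀ {a b : M}, a ∈ K → b ∈ K → a * b ∈ K
  pig : ∀ (x : M) (a a' : Fin 5 → M), x ≠ 1 → x.det = 1 → (∀ i, (a i).det = 1) → (∀ i, a' i * a i = 1) →
    (∀ i, a' i * x * a i ∈ K) → ∃ i j, i < j ∧ a' i * a j ∈ K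

abbrev SL3 := SpecialLinearGroup (Fin 3) (ZMod 3)
abbrev PSL3 := Matrix.ProjectiveSpecialLinearGroup (Fin 3) (ZMod 3)

/-- the matrix of an element -/
def toM (g : SL3) : M := g.1

/-- an element with a given matrix -/
def mkSL (m : M) (h : m.det = 1) : SL3 := ⟨m, h⟩

/-- the projection -/
def pr : SL3 →* PSL3 := QuotientGroup.mk' _

theorem toM_mkSL (m : M) (h : m.det = 1) : toM (mkSL m h) = m := rfl
theorem toM_one : toM 1 = 1 := rfl
theorem toM_mul (g h : SL3) : toM (g * h) = toM g * toM h := rfl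
theorem toM_inj {g h : SL3} (e : toM g = toM h) : g = h := Subtype.ext e
theorem det_toM (g : SL3) : (toM g).det = 1 := g.2

theorem toM_inv {g : SL3} {b : M} (h : toM g * b = 1) : toM g⁻¹ = b := by
  have h1 : toM g⁻¹ * toM g = 1 := by rw [← toM_mul, inv_mul_cancel, toM_one]
  calc toM g⁻¹ = toM g⁻¹ * (toM g * b) := by rw [h, mul_one]
    _ = b := by rw [← mul_assoc, h1, one_mul]

/-- the matrices over a subgroup -/
def Km (H : Subgroup PSL3) : Set M := {m | ∃ g : SL3, toM g = m ∧ pr g ∈ H}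

theorem center_iff (g : SL3) : g ∈ Subgroup.center SL3 ↔ toM g = 1 := by
  rw [Matrix.SpecialLinearGroup.mem_center_iff]
  constructor
  · rintro ⟨r, hr1, hr2⟩
    have key : ∀ r : ZMod 3, r ^ 3 = 1 → r = 1 := by decide
    have hr2' : scalar (Fin 3) r = toM g := hr2
    rw [← hr2', key r hr1]; simp
  · intro h
    exact ⟨1, by simp, by rw [map_one]; exact h.symm⟩

theorem pr_eq_one (g : SL3) : pr g = 1 ↔ toM g = 1 := by
  rw [← center_iff]
  exact QuotientGroup.eq_one_iff g

theorem pr_surj (x : PSL3) : ∃ g, pr g = x := QuotientGroup.mk'_surjective _ x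

theorem PK_of {H : Subgroup PSL3} (hH : FixLE 4 H) : PK (Km H) where
  one := ⟨1, rfl, H.one_mem⟩
  mul := by
    rintro _ _ ⟨g, rfl, hg⟩ ⟨h, rfl, hh⟩
    exact ⟨g * h, rfl, by rw [map_mul]; exact H.mul_mem hg hh⟩
  pig := by
    intro x a a' hx1 hxd hd hinv hmem
    have hai : ∀ i, toM (mkSL (a i) (hd i))⁻¹ = a' i := fun i =>
      toM_inv (mul_eq_one_comm.1 (hinv i))
    obtain ⟨i, j, hij, hh⟩ := pigeon hH (x := pr (mkSL x hxd))
      (fun h => hx1 ((pr_eq_one _).1 h)) (fun i => pr (mkSL (a i) (hd i))) (fun i => by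
        obtain ⟨g, hg, hgH⟩ := hmem i
        have : (mkSL (a i) (hd i))⁻¹ * mkSL x hxd * mkSL (a i) (hd i) = g := by
          apply toM_inj
          rw [toM_mul, toM_mul, hai, toM_mkSL, toM_mkSL, hg]
        rw [← map_inv, ← map_mul, ← map_mul, this]
        exact hgH)
    refine ⟨i, j, hij, (mkSL (a i) (hd i))⁻¹ * mkSL (a j) (hd j), ?_, ?_⟩
    · rw [toM_mul, toM_mkSL, hai]
    · rw [map_mul, map_inv]; exact hh

/-- conjugation by an invertible matrix -/
def cjM (P P' : M) (K : Set M) : Set M := {m | P * m * P' ∈ K}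

theorem mem_cjM {P P' m : M} {K : Set M} : m ∈ cjM P P' K ↔ P * m * P' ∈ K := Iff.rfl

theorem cj_mul {P P' : M} (h' : P' * P = 1) (a b : M) : P * (a * b) * P' = (P * a * P') * (P * b * P') := by
  calc P * (a * b) * P' = P * a * (1 : M) * b * P' := by rw [mul_one]; simp only [mul_assoc]
    _ = P * a * (P' * P) * b * P' := by rw [h']
    _ = _ := by simp only [mul_assoc]

theorem cj_inj {P P' : M} (h' : P' * P = 1) {a b : M} (hab : P * a * P' = P * b * P') : a = b := by
  have h1 := congrArg (fun z => P' * z * P) hab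
  have h2 : ∀ a : M, P' * (P * a * P') * P = a := by
    intro a
    calc P' * (P * a * P') * P = (P' * P) * a * (P' * P) := by simp only [mul_assoc]
      _ = a := by rw [h', one_mul, mul_one]
  simp only [h2] at h1
  exact h1

theorem det_cj {P P' : M} (h : P * P' = 1) (a : M) : (P * a * P').det = a.det := by
  have : P.det * P'.det = 1 := by rw [← det_mul, h, det_one]
  rw [det_mul, det_mul]
  calc P.det * a.det * P'.det = (P.det * P'.det) * a.det := by ring
    _ = a.det := by rw [this, one_mul]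

theorem PK.conj {K : Set M} (hK : PK K) {P P' : M} (h : P * P' = 1) : PK (cjM P P' K) := by
  have h' : P' * P = 1 := mul_eq_one_comm.1 h
  refine ⟨?_, ?_, ?_⟩
  · rw [mem_cjM, mul_one, h]; exact hK.one
  · intro a b ha hb
    rw [mem_cjM, cj_mul h']; exact hK.mul ha hb
  · intro x a a' hx1 hxd hd hinv hmem
    obtain ⟨i, j, hij, hh⟩ := hK.pig (P * x * P') (fun i => P * a i * P') (fun i => P * a' i * P')
      (by
        intro h1
        apply hx1
        apply cj_inj h'
        rw [h1, mul_one, h])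
      (by rw [det_cj h, hxd])
      (fun i => by rw [det_cj h, hd])
      (fun i => by rw [← cj_mul h', hinv, mul_one, h])
      (fun i => by
        rw [← cj_mul h', ← cj_mul h']
        exact hmem i)
    exact ⟨i, j, hij, by rw [mem_cjM, cj_mul h']; exact hh⟩

/-- everything of determinant one -/
def Full (K : Set M) : Prop := ∀ m : M, m.det = 1 → m ∈ K

theorem Full.of_conj {K : Set M} {P P' : M} (h : P * P' = 1) (hf : Full (cjM P P' K)) : Full K := by
  intro m hm
  have h' : P' * P = 1 := mul_eq_one_comm.1 h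
  have h1 := hf (P' * m * P) (by rw [det_cj h', hm])
  rw [mem_cjM] at h1
  have : P * (P' * m * P) * P' = m := by
    calc P * (P' * m * P) * P' = (P * P') * m * (P * P') := by simp only [mul_assoc]
      _ = m := by rw [h, one_mul, mul_one]
  rwa [this] at h1

theorem top_of_full {H : Subgroup PSL3} (h : Full (Km H)) : H = ⊤ := by
  rw [eq_top_iff]
  intro x _
  obtain ⟨g, rfl⟩ := pr_surj x
  obtain ⟨g', hg', hH⟩ := h (toM g) (det_toM g)
  rwa [toM_inj hg'] at hH

/-- the submonoid of elements whose matrices lie in `K` -/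
def Ks {K : Set M} (hK : PK K) : Submonoid SL3 where
  carrier := {g | toM g ∈ K}
  one_mem' := hK.one
  mul_mem' := fun {a b} ha hb => by
    change toM (a * b) ∈ K
    rw [toM_mul]; exact hK.mul ha hb

theorem mem_Ks {K : Set M} (hK : PK K) (g : SL3) : g ∈ Ks hK ↔ toM g ∈ K := Iff.rfl

/-- the transvection `1 + t e_ij` -/
def tr (i j : Fin 3) (h : i ≠ j) (t : ZMod 3) : SL3 := SpecialLinearGroup.transvection h t

theorem tr_pow : ∀ (i j : Fin 3) (h : i ≠ j) (t : ZMod 3), tr i j h t = (tr i j h 1) ^ t.val := by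
  decide +kernel

theorem full_of_tr {K : Set M} (hK : PK K) (h : ∀ (i j : Fin 3) (hij : i ≠ j), toM (tr i j hij 1) ∈ K) : Full K := by
  intro m hm
  have h2 : mkSL m hm ∈ Ks hK := by
    refine Cfsg.Agent.LieClassical.SLGen.transvection_induction (fun A => A ∈ Ks hK) (fun i j hij t => ?_) (fun _ _ => mul_mem) _
    show tr i j hij t ∈ Ks hK
    rw [tr_pow]
    have h3 : tr i j hij 1 ∈ Ks hK := h i j hij
    exact pow_mem h3 _
  exact h2

end Cfsg.Agent.H752.LThree
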