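import Cfsg.Agent.H752.Fx33.Base

/-!
# Fixity 4 for `PSL(3, 3)`: the certificate (task 2053, for S3002, S2993)

The nodes are the classes of subgroups of even order; at each node five elements `a` with `a⁻¹ x a` in the subgroup
are given, and for each pair a bigger subgroup on the list is found.
-/

set_option autoImplicit false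
set_option maxRecDepth 10000

namespace Cfsg.Agent.H752.LThree

open Matrix Cfsg.Agent.H254.Ev

/-- codes of matrices -/
structure C where
  a : ℕ
  b : ℕ
  c : ℕ
  d : ℕ
  e : ℕ
  f : ℕ
  g : ℕ
  h : ℕ
  i : ℕ

namespace C

def one : C := ⟨1, 0, 0, 0, 1, 0, 0, 0, 1⟩

def mul (x y : C) : C :=
  ⟨(x.a * y.a + x.b * y.d + x.c * y.g) % 3, (x.a * y.b + x.b * y.e + x.c * y.h) % 3, (x.a * y.c + x.b * y.f + x.c * y.i) % 3,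
   (x.d * y.a + x.e * y.d + x.f * y.g) % 3, (x.d * y.b + x.e * y.e + x.f * y.h) % 3, (x.d * y.c + x.e * y.f + x.f * y.i) % 3,
   (x.g * y.a + x.h * y.d + x.i * y.g) % 3, (x.g * y.b + x.h * y.e + x.i * y.h) % 3, (x.g * y.c + x.h * y.f + x.i * y.i) % 3⟩

def eqb (x y : C) : Bool :=
  x.a == y.a && x.b == y.b && x.c == y.c && x.d == y.d && x.e == y.e && x.f == y.f && x.g == y.g && x.h == y.h && x.i == y.i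

def det (x : C) : ℕ :=
  (x.a * x.e * x.i + x.b * x.f * x.g + x.c * x.d * x.h + 2 * (x.a * x.f * x.h + x.b * x.d * x.i + x.c * x.e * x.g)) % 3

def toM (x : C) : M := !![(x.a : ZMod 3), x.b, x.c; x.d, x.e, x.f; x.g, x.h, x.i]

theorem eq_of_eqb {x y : C} (h : eqb x y = true) : x = y := by
  cases x; cases y
  simp only [eqb, Bool.and_eq_true, beq_iff_eq] at h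
  obtain ⟨⟨⟨⟨⟨⟨⟨⟨h1, h2⟩, h3⟩, h4⟩, h5⟩, h6⟩, h7⟩, h8⟩, h9⟩ := h
  subst h1 h2 h3 h4 h5 h6 h7 h8 h9
  rfl

theorem toM_one : toM one = 1 := by decide +kernel

theorem toM_mul (x y : C) : toM (mul x y) = toM x * toM y := by
  ext i j
  fin_cases i <;> fin_cases j <;>
    simp [toM, mul, Matrix.mul_apply, Fin.sum_univ_three]

theorem det_toM {x : C} (h : x.det = 1) : (toM x).det = 1 := by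
  have h1 : ((det x : ℕ) : ZMod 3) = 1 := by rw [h]; rfl
  rw [det, ZMod.natCast_mod] at h1
  rw [Matrix.det_fin_three]
  simp only [toM, Matrix.of_apply, Matrix.cons_val', Matrix.cons_val_zero, Matrix.cons_val_one, Matrix.cons_val]
  push_cast at h1
  have h3 : (3 : ZMod 3) = 0 := by decide
  linear_combination h1 - ((x.a : ZMod 3) * x.f * x.h + x.b * x.d * x.i + x.c * x.e * x.g) * h3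

def isOne (x : C) : Bool :=
  x.a % 3 == 1 && x.b % 3 == 0 && x.c % 3 == 0 && x.d % 3 == 0 && x.e % 3 == 1 && x.f % 3 == 0 && x.g % 3 == 0 &&
    x.h % 3 == 0 && x.i % 3 == 1

theorem toM_ne_one {x : C} (h : isOne x = false) : toM x ≠ 1 := by
  intro h1
  have key : ∀ i j, toM x i j = (1 : M) i j := fun i j => by rw [h1]
  have k0 : ∀ n : ℕ, (n : ZMod 3) = 0 → n % 3 = 0 := fun n hn => (ZMod.natCast_eq_natCast_iff' n 0 3).1 (by simpa using hn)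
  have k1 : ∀ n : ℕ, (n : ZMod 3) = 1 → n % 3 = 1 := fun n hn => (ZMod.natCast_eq_natCast_iff' n 1 3).1 (by simpa using hn)
  have : isOne x = true := by
    simp only [isOne, Bool.and_eq_true, beq_iff_eq]
    exact ⟨⟨⟨⟨⟨⟨⟨⟨k1 _ (key 0 0), k0 _ (key 0 1)⟩, k0 _ (key 0 2)⟩, k0 _ (key 1 0)⟩, k1 _ (key 1 1)⟩, k0 _ (key 1 2)⟩,
      k0 _ (key 2 0)⟩, k0 _ (key 2 1)⟩, k1 _ (key 2 2)⟩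
  rw [this] at h
  exact absurd h (by decide)

end C

/-- value of a word -/
def ev (gs : List C) (w : List ℕ) : C := w.foldl (fun acc k => C.mul acc (gs.getD k C.one)) C.one

theorem ev_mem {K : Set M} (hK : PK K) {gs : List C} (hg : ∀ g ∈ gs, C.toM g ∈ K) (w : List ℕ) : C.toM (ev gs w) ∈ K := by
  have key : ∀ (w : List ℕ) (acc : C), C.toM acc ∈ K →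
      C.toM (w.foldl (fun acc k => C.mul acc (gs.getD k C.one)) acc) ∈ K := by
    intro w
    induction w with
    | nil => intro acc h; exact h
    | cons k w ih =>
      intro acc h
      rw [List.foldl_cons]
      apply ih
      rw [C.toM_mul]
      refine hK.mul h ?_
      rw [List.getD_eq_getElem?_getD]
      rcases hk : gs[k]? with _ | g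
      · rw [Option.getD_none, C.toM_one]; exact hK.one
      · rw [Option.getD_some]
        exact hg g (List.mem_of_getElem? hk)
  exact key w C.one (by rw [C.toM_one]; exact hK.one)

/-- a branch: the pair, the target, the conjugating element and its inverse, the words -/
structure Br where
  i : ℕ
  j : ℕ
  tgt : ℕ
  g : C
  gi : C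
  ws : List (List ℕ)

/-- a node -/
structure Node where
  gens : List C
  x : C
  a : List C
  ai : List C
  mem : List (List ℕ)
  brs : List Br

/-- check of words -/
def chkWords (gs : List C) (g gi : C) : List C → List (List ℕ) → Bool
  | [], _ => true
  | _ :: _, [] => false
  | h :: hs, w :: ws => C.eqb (ev gs w) (C.mul (C.mul g h) gi) && chkWords gs g gi hs ws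

theorem chkWords_spec {K : Set M} (hK : PK K) {gs : List C} (hg : ∀ g ∈ gs, C.toM g ∈ K) {g gi : C} :
    ∀ {hs : List C} {ws : List (List ℕ)}, chkWords gs g gi hs ws = true →
    ∀ h ∈ hs, C.toM g * C.toM h * C.toM gi ∈ K := by
  intro hs
  induction hs with
  | nil => intro ws _ h hh; simp at hh
  | cons h0 hs ih =>
    intro ws hw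
    rcases ws with _ | ⟨w, ws⟩
    · exact absurd hw (by simp [chkWords])
    · rw [chkWords, Bool.and_eq_true] at hw
      intro h hh
      rcases List.mem_cons.1 hh with rfl | hh
      · rw [← C.toM_mul, ← C.toM_mul, ← C.eq_of_eqb hw.1]
        exact ev_mem hK hg w
      · exact ih hw.2 h hh

/-- check of a branch -/
def chkBr (tab : List (List C)) (k : ℕ) (n : Node) (b : Br) : Bool :=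
  decide (k < b.tgt) && decide (b.tgt < tab.length) && C.eqb (C.mul b.g b.gi) C.one &&
    chkWords (C.mul (n.ai.getD b.i C.one) (n.a.getD b.j C.one) :: n.gens) b.g b.gi (tab.getD b.tgt []) b.ws

/-- the ten pairs -/
def prs : List (ℕ × ℕ) := [(0, 1), (0, 2), (0, 3), (0, 4), (1, 2), (1, 3), (1, 4), (2, 3), (2, 4), (3, 4)]

/-- check of a node -/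
def chkNode (tab : List (List C)) (k : ℕ) (n : Node) : Bool :=
  !(C.isOne n.x) && n.x.det == 1 &&
  (List.range 5).all (fun t => (n.a.getD t C.one).det == 1 && C.eqb (C.mul (n.ai.getD t C.one) (n.a.getD t C.one)) C.one &&
    C.eqb (ev n.gens (n.mem.getD t [])) (C.mul (C.mul (n.ai.getD t C.one) n.x) (n.a.getD t C.one))) &&
  prs.all (fun p => n.brs.any (fun b => b.i == p.1 && b.j == p.2 && chkBr tab k n b))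

/-- the nodes -/
def nodes : List Node := [
  ⟨[⟨2, 0, 0, 0, 2, 0, 0, 0, 1⟩],
    ⟨2, 0, 0, 0, 2, 0, 0, 0, 1⟩,
    [⟨0, 1, 0, 1, 1, 0, 0, 0, 2⟩, ⟨1, 0, 0, 0, 1, 0, 0, 0, 1⟩, ⟨1, 1, 0, 1, 0, 0, 0, 0, 2⟩, ⟨1, 1, 0, 2, 1, 0, 0, 0, 2⟩, ⟨1, 2, 0, 0, 1, 0, 0, 0, 1⟩],
    [⟨2, 1, 0, 1, 0, 0, 0, 0, 2⟩, ⟨1, 0, 0, 0, 1, 0, 0, 0, 1⟩, ⟨0, 1, 0, 1, 2, 0, 0, 0, 2⟩, ⟨2, 1, 0, 2, 2, 0, 0, 0, 2⟩, ⟨1, 1, 0, 0, 1, 0, 0, 0, 1⟩],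
    [[0], [0], [0], [0], [0]],
    [⟨0, 1, 2, ⟨0, 1, 0, 1, 1, 0, 0, 0, 2⟩, ⟨2, 1, 0, 1, 0, 0, 0, 0, 2⟩, [[0, 1]]⟩,
     ⟨0, 2, 1, ⟨0, 1, 0, 1, 0, 0, 0, 0, 2⟩, ⟨0, 1, 0, 1, 0, 0, 0, 0, 2⟩, [[0]]⟩,
     ⟨0, 3, 1, ⟨1, 2, 0, 0, 1, 0, 0, 0, 1⟩, ⟨1, 1, 0, 0, 1, 0, 0, 0, 1⟩, [[0, 1]]⟩,
     ⟨0, 4, 2, ⟨0, 1, 0, 1, 2, 0, 0, 0, 2⟩, ⟨1, 1, 0, 1, 0, 0, 0, 0, 2⟩, [[0]]⟩,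
     ⟨1, 2, 2, ⟨0, 1, 0, 2, 2, 0, 0, 0, 1⟩, ⟨2, 2, 0, 1, 0, 0, 0, 0, 1⟩, [[0]]⟩,
     ⟨1, 3, 2, ⟨0, 1, 0, 1, 2, 0, 0, 0, 2⟩, ⟨1, 1, 0, 1, 0, 0, 0, 0, 2⟩, [[0, 1]]⟩,
     ⟨1, 4, 1, ⟨0, 1, 0, 2, 1, 0, 0, 0, 1⟩, ⟨1, 2, 0, 1, 0, 0, 0, 0, 1⟩, [[0, 1]]⟩,
     ⟨2, 3, 1, ⟨0, 1, 0, 1, 1, 0, 0, 0, 2⟩, ⟨2, 1, 0, 1, 0, 0, 0, 0, 2⟩, [[0, 1]]⟩,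
     ⟨2, 4, 2, ⟨0, 1, 0, 2, 0, 0, 0, 0, 1⟩, ⟨0, 2, 0, 1, 0, 0, 0, 0, 1⟩, [[0]]⟩,
     ⟨3, 4, 2, ⟨0, 1, 0, 2, 2, 0, 0, 0, 1⟩, ⟨2, 2, 0, 1, 0, 0, 0, 0, 1⟩, [[0, 1]]⟩]⟩,
  ⟨[⟨1, 1, 0, 2, 0, 0, 0, 0, 1⟩],
    ⟨2, 2, 0, 1, 0, 0, 0, 0, 1⟩,
    [⟨0, 1, 0, 1, 0, 0, 0, 0, 2⟩, ⟨0, 1, 0, 1, 0, 0, 1, 2, 2⟩, ⟨0, 1, 1, 1, 0, 1, 0, 0, 2⟩, ⟨0, 1, 1, 2, 2, 1, 1, 2, 1⟩, ⟨0, 1, 2, 2, 2, 2, 1, 2, 1⟩],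
    [⟨0, 1, 0, 1, 0, 0, 0, 0, 2⟩, ⟨0, 1, 0, 1, 0, 0, 2, 1, 2⟩, ⟨0, 1, 1, 1, 0, 1, 0, 0, 2⟩, ⟨0, 1, 2, 2, 2, 2, 2, 1, 1⟩, ⟨1, 0, 1, 0, 1, 1, 2, 1, 1⟩],
    [[0, 0], [0, 0], [0, 0], [0, 0, 0, 0], [0, 0, 0, 0]],
    [⟨0, 1, 4, ⟨0, 1, 0, 2, 2, 0, 1, 2, 1⟩, ⟨2, 2, 0, 1, 0, 0, 2, 1, 1⟩, [[1], [0, 1, 1]]⟩,
     ⟨0, 2, 5, ⟨0, 1, 1, 1, 0, 1, 0, 0, 2⟩, ⟨0, 1, 1, 1, 0, 1, 0, 0, 2⟩, [[1, 1, 1, 1, 1], [1, 0]]⟩,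
     ⟨0, 3, 9, ⟨2, 2, 1, 1, 0, 1, 1, 2, 1⟩, ⟨1, 0, 2, 0, 1, 2, 2, 1, 1⟩, [[1], [0]]⟩,
     ⟨0, 4, 9, ⟨1, 0, 1, 2, 2, 1, 1, 2, 2⟩, ⟨2, 2, 1, 0, 1, 1, 2, 1, 2⟩, [[0, 0, 1], [0]]⟩,
     ⟨1, 2, 6, ⟨0, 1, 2, 2, 2, 2, 2, 1, 1⟩, ⟨0, 1, 1, 2, 2, 1, 1, 2, 1⟩, [[1, 0], [0, 1]]⟩,
     ⟨1, 3, 9, ⟨1, 1, 2, 0, 2, 2, 0, 0, 2⟩, ⟨1, 1, 1, 0, 2, 1, 0, 0, 2⟩, [[1, 0, 0], [0]]⟩,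
     ⟨1, 4, 9, ⟨1, 1, 2, 2, 0, 2, 1, 2, 1⟩, ⟨2, 0, 2, 0, 2, 2, 1, 2, 1⟩, [[1], [0]]⟩,
     ⟨2, 3, 9, ⟨0, 1, 1, 1, 0, 1, 1, 2, 2⟩, ⟨1, 0, 1, 2, 2, 1, 2, 1, 2⟩, [[0, 0, 1], [0]]⟩,
     ⟨2, 4, 7, ⟨0, 2, 0, 2, 0, 0, 2, 1, 2⟩, ⟨0, 2, 0, 2, 0, 0, 2, 1, 2⟩, [[0], [1, 0]]⟩,
     ⟨3, 4, 5, ⟨0, 1, 1, 1, 0, 1, 0, 0, 2⟩, ⟨0, 1, 1, 1, 0, 1, 0, 0, 2⟩, [[1, 1, 1, 1, 1], [1, 0]]⟩]⟩,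
  ⟨[⟨1, 2, 0, 2, 0, 0, 0, 0, 2⟩],
    ⟨2, 0, 0, 0, 2, 0, 0, 0, 1⟩,
    [⟨0, 1, 0, 1, 1, 0, 0, 0, 2⟩, ⟨0, 1, 0, 1, 2, 0, 0, 0, 2⟩, ⟨0, 1, 0, 2, 0, 0, 0, 0, 1⟩, ⟨0, 1, 0, 2, 1, 0, 0, 0, 1⟩, ⟨0, 1, 0, 2, 2, 0, 0, 0, 1⟩],
    [⟨2, 1, 0, 1, 0, 0, 0, 0, 2⟩, ⟨1, 1, 0, 1, 0, 0, 0, 0, 2⟩, ⟨0, 2, 0, 1, 0, 0, 0, 0, 1⟩, ⟨1, 2, 0, 1, 0, 0, 0, 0, 1⟩, ⟨2, 2, 0, 1, 0, 0, 0, 0, 1⟩],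
    [[0, 0, 0, 0], [0, 0, 0, 0], [0, 0, 0, 0], [0, 0, 0, 0], [0, 0, 0, 0]],
    [⟨0, 1, 8, ⟨1, 0, 0, 0, 1, 0, 0, 0, 1⟩, ⟨1, 0, 0, 0, 1, 0, 0, 0, 1⟩, [[1], [0, 0, 1, 1]]⟩,
     ⟨0, 2, 3, ⟨1, 1, 0, 1, 2, 0, 0, 0, 1⟩, ⟨2, 2, 0, 2, 1, 0, 0, 0, 1⟩, [[1, 0], [1]]⟩,
     ⟨0, 3, 8, ⟨0, 1, 0, 1, 1, 0, 0, 0, 2⟩, ⟨2, 1, 0, 1, 0, 0, 0, 0, 2⟩, [[1], [1, 1, 0, 1]]⟩,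
     ⟨0, 4, 8, ⟨0, 1, 0, 2, 0, 0, 0, 0, 1⟩, ⟨0, 2, 0, 1, 0, 0, 0, 0, 1⟩, [[1, 1, 1], [0, 1]]⟩,
     ⟨1, 2, 8, ⟨0, 1, 0, 2, 0, 0, 0, 0, 1⟩, ⟨0, 2, 0, 1, 0, 0, 0, 0, 1⟩, [[1, 1, 1], [0, 1]]⟩,
     ⟨1, 3, 3, ⟨1, 1, 0, 1, 2, 0, 0, 0, 1⟩, ⟨2, 2, 0, 2, 1, 0, 0, 0, 1⟩, [[1, 0], [1]]⟩,
     ⟨1, 4, 8, ⟨0, 1, 0, 1, 1, 0, 0, 0, 2⟩, ⟨2, 1, 0, 1, 0, 0, 0, 0, 2⟩, [[1], [1, 1, 0, 1]]⟩,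
     ⟨2, 3, 8, ⟨1, 0, 0, 0, 1, 0, 0, 0, 1⟩, ⟨1, 0, 0, 0, 1, 0, 0, 0, 1⟩, [[1], [0, 1, 1]]⟩,
     ⟨2, 4, 8, ⟨1, 0, 0, 0, 1, 0, 0, 0, 1⟩, ⟨1, 0, 0, 0, 1, 0, 0, 0, 1⟩, [[1], [0, 0, 1, 1]]⟩,
     ⟨3, 4, 8, ⟨1, 0, 0, 0, 1, 0, 0, 0, 1⟩, ⟨1, 0, 0, 0, 1, 0, 0, 0, 1⟩, [[1], [0, 1, 1]]⟩]⟩,
  ⟨[⟨1, 2, 0, 2, 2, 0, 0, 0, 1⟩, ⟨1, 2, 0, 2, 0, 0, 0, 0, 2⟩],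
    ⟨2, 0, 0, 0, 2, 0, 0, 0, 1⟩,
    [⟨0, 0, 1, 0, 1, 2, 2, 1, 0⟩, ⟨0, 1, 0, 0, 1, 1, 1, 2, 0⟩, ⟨0, 1, 0, 1, 2, 0, 0, 0, 2⟩, ⟨0, 1, 1, 0, 0, 1, 1, 2, 0⟩, ⟨0, 1, 1, 0, 2, 0, 1, 2, 0⟩],
    [⟨1, 1, 2, 1, 1, 0, 1, 0, 0⟩, ⟨1, 0, 1, 1, 0, 0, 2, 1, 0⟩, ⟨1, 1, 0, 1, 0, 0, 0, 0, 2⟩, ⟨1, 2, 1, 1, 2, 0, 0, 1, 0⟩, ⟨0, 2, 1, 0, 2, 0, 1, 1, 0⟩],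
    [[0, 0, 0, 1], [0, 0, 0, 1], [0, 0], [0, 0, 0, 1], [0, 0, 0, 1]],
    [⟨0, 1, 14, ⟨1, 2, 1, 0, 0, 2, 0, 1, 2⟩, ⟨1, 0, 1, 0, 2, 1, 0, 2, 0⟩, [[1, 1, 0, 1, 2], [1]]⟩,
     ⟨0, 2, 14, ⟨0, 0, 1, 1, 0, 2, 2, 1, 0⟩, ⟨1, 1, 0, 1, 1, 1, 1, 0, 0⟩, [[1, 2, 0, 1], [2, 0, 2]]⟩,
     ⟨0, 3, 14, ⟨0, 0, 1, 2, 1, 1, 0, 2, 1⟩, ⟨2, 2, 2, 1, 0, 2, 1, 0, 0⟩, [[2, 0, 1, 0, 1, 2], [1]]⟩,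
     ⟨0, 4, 14, ⟨2, 1, 2, 0, 0, 1, 0, 1, 2⟩, ⟨2, 0, 1, 0, 1, 1, 0, 1, 0⟩, [[0, 0, 0], [1]]⟩,
     ⟨1, 2, 14, ⟨0, 0, 2, 0, 1, 2, 1, 0, 2⟩, ⟨2, 0, 1, 2, 1, 0, 2, 0, 0⟩, [[0, 1, 1, 0, 2], [0]]⟩,
     ⟨1, 3, 14, ⟨1, 2, 1, 0, 0, 2, 0, 1, 2⟩, ⟨1, 0, 1, 0, 2, 1, 0, 2, 0⟩, [[1, 2, 0], [1]]⟩,
     ⟨1, 4, 14, ⟨1, 1, 0, 1, 2, 2, 1, 2, 0⟩, ⟨2, 0, 2, 2, 0, 1, 0, 2, 1⟩, [[0, 2, 0, 1], [0]]⟩,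
     ⟨2, 3, 14, ⟨1, 1, 2, 0, 1, 2, 1, 1, 0⟩, ⟨1, 2, 0, 2, 1, 1, 2, 0, 1⟩, [[2, 0, 2], [1, 0]]⟩,
     ⟨2, 4, 14, ⟨0, 2, 2, 0, 1, 2, 2, 2, 2⟩, ⟨1, 0, 2, 1, 2, 0, 1, 1, 0⟩, [[0, 2, 2, 0], [2, 1, 0]]⟩,
     ⟨3, 4, 14, ⟨1, 2, 1, 0, 0, 2, 0, 1, 2⟩, ⟨1, 0, 1, 0, 2, 1, 0, 2, 0⟩, [[0, 1, 1], [1]]⟩]⟩,
  ⟨[⟨1, 1, 0, 2, 0, 0, 2, 1, 1⟩, ⟨0, 1, 0, 2, 2, 0, 2, 1, 1⟩],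
    ⟨2, 2, 0, 1, 0, 0, 1, 2, 1⟩,
    [⟨0, 0, 2, 1, 2, 2, 0, 2, 1⟩, ⟨0, 1, 0, 1, 0, 0, 0, 1, 2⟩, ⟨0, 1, 1, 1, 0, 1, 0, 0, 2⟩, ⟨0, 1, 2, 2, 2, 2, 0, 1, 0⟩, ⟨0, 1, 2, 2, 2, 2, 0, 2, 2⟩],
    [⟨1, 1, 2, 2, 0, 2, 2, 0, 0⟩, ⟨0, 1, 0, 1, 0, 0, 1, 0, 2⟩, ⟨0, 1, 1, 1, 0, 1, 0, 0, 2⟩, ⟨1, 2, 1, 0, 0, 1, 2, 0, 1⟩, ⟨0, 2, 1, 2, 0, 1, 1, 0, 1⟩],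
    [[0, 1, 1, 0, 1], [0, 0], [1, 1], [0, 0, 0, 0], [0, 1, 1, 0]],
    [⟨0, 1, 12, ⟨0, 1, 2, 1, 0, 2, 2, 0, 0⟩, ⟨0, 0, 2, 1, 2, 2, 0, 2, 2⟩, [[1, 0], [0, 0, 1, 1]]⟩,
     ⟨0, 2, 9, ⟨1, 2, 2, 2, 1, 2, 2, 0, 0⟩, ⟨0, 0, 2, 1, 2, 2, 1, 1, 0⟩, [[0, 1, 2], [1]]⟩,
     ⟨0, 3, 10, ⟨0, 0, 2, 2, 1, 2, 0, 1, 0⟩, ⟨1, 2, 1, 0, 0, 1, 2, 0, 0⟩, [[1], [0, 0, 1, 0]]⟩,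
     ⟨0, 4, 12, ⟨0, 1, 1, 2, 2, 1, 1, 1, 0⟩, ⟨2, 1, 2, 1, 2, 2, 0, 1, 1⟩, [[0, 0, 0, 0, 0], [0, 2, 0, 1, 0]]⟩,
     ⟨1, 2, 10, ⟨2, 1, 1, 0, 0, 1, 2, 2, 0⟩, ⟨1, 2, 1, 2, 1, 1, 0, 1, 0⟩, [[1], [0, 2]]⟩,
     ⟨1, 3, 9, ⟨0, 2, 2, 1, 1, 2, 2, 1, 1⟩, ⟨2, 0, 2, 0, 2, 2, 2, 1, 1⟩, [[1], [0, 2]]⟩,
     ⟨1, 4, 12, ⟨0, 0, 2, 1, 2, 2, 1, 1, 0⟩, ⟨1, 2, 2, 2, 1, 2, 2, 0, 0⟩, [[1, 0, 0], [1, 0]]⟩,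
     ⟨2, 3, 12, ⟨0, 1, 0, 2, 2, 0, 2, 2, 1⟩, ⟨2, 2, 0, 1, 0, 0, 0, 2, 1⟩, [[0], [0, 0, 1, 2, 0]]⟩,
     ⟨2, 4, 12, ⟨0, 1, 0, 2, 2, 0, 1, 1, 1⟩, ⟨2, 2, 0, 1, 0, 0, 0, 1, 1⟩, [[0, 0, 0, 0, 0], [1, 2, 0, 1, 0]]⟩,
     ⟨3, 4, 12, ⟨1, 0, 2, 0, 1, 2, 0, 0, 1⟩, ⟨1, 0, 1, 0, 1, 1, 0, 0, 1⟩, [[0, 0, 1], [0, 1, 1]]⟩]⟩,
  ⟨[⟨1, 1, 1, 2, 0, 1, 0, 0, 1⟩, ⟨0, 2, 2, 1, 1, 2, 0, 0, 1⟩],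
    ⟨2, 2, 1, 1, 0, 1, 0, 0, 1⟩,
    [⟨0, 1, 0, 0, 1, 2, 2, 1, 2⟩, ⟨0, 1, 0, 1, 0, 0, 2, 1, 2⟩, ⟨0, 1, 0, 1, 0, 2, 1, 2, 1⟩, ⟨0, 1, 0, 2, 2, 1, 0, 0, 1⟩, ⟨0, 1, 0, 2, 2, 1, 1, 2, 0⟩],
    [⟨0, 1, 2, 1, 0, 0, 1, 2, 0⟩, ⟨0, 1, 0, 1, 0, 0, 1, 2, 2⟩, ⟨2, 2, 2, 1, 0, 0, 2, 1, 2⟩, ⟨2, 2, 1, 1, 0, 0, 0, 0, 1⟩, ⟨1, 0, 1, 1, 0, 0, 2, 1, 1⟩],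
    [[0, 0], [0, 1, 1, 1], [0, 1], [1, 1], [0, 0, 0, 1]],
    [⟨0, 1, 13, ⟨0, 1, 0, 0, 1, 2, 2, 1, 2⟩, ⟨0, 1, 2, 1, 0, 0, 1, 2, 0⟩, [[2], [0, 0, 1, 0, 2, 0, 1, 0]]⟩,
     ⟨0, 2, 13, ⟨0, 1, 0, 0, 1, 2, 2, 1, 2⟩, ⟨0, 1, 2, 1, 0, 0, 1, 2, 0⟩, [[2], [0, 0, 0, 0, 0, 1]]⟩,
     ⟨0, 3, 9, ⟨0, 1, 0, 2, 2, 0, 1, 2, 1⟩, ⟨2, 2, 0, 1, 0, 0, 2, 1, 1⟩, [[1], [1, 0, 2]]⟩,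
     ⟨0, 4, 11, ⟨0, 2, 0, 1, 1, 0, 0, 0, 1⟩, ⟨1, 1, 0, 2, 0, 0, 0, 0, 1⟩, [[0, 0, 1, 0], [0, 0, 0]]⟩,
     ⟨1, 2, 13, ⟨0, 1, 0, 0, 1, 2, 2, 1, 2⟩, ⟨0, 1, 2, 1, 0, 0, 1, 2, 0⟩, [[2], [0, 1]]⟩,
     ⟨1, 3, 11, ⟨0, 1, 0, 1, 0, 0, 0, 0, 2⟩, ⟨0, 1, 0, 1, 0, 0, 0, 0, 2⟩, [[1, 0], [2, 1, 0]]⟩,
     ⟨1, 4, 9, ⟨0, 1, 2, 2, 2, 0, 1, 2, 0⟩, ⟨0, 1, 2, 0, 1, 1, 2, 1, 1⟩, [[1, 0, 1, 1], [0]]⟩,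
     ⟨2, 3, 13, ⟨0, 1, 0, 0, 1, 2, 2, 1, 2⟩, ⟨0, 1, 2, 1, 0, 0, 1, 2, 0⟩, [[2], [2, 0]]⟩,
     ⟨2, 4, 13, ⟨0, 1, 0, 0, 1, 2, 2, 1, 2⟩, ⟨0, 1, 2, 1, 0, 0, 1, 2, 0⟩, [[2], [0, 0, 0, 1, 0, 0]]⟩,
     ⟨3, 4, 13, ⟨0, 1, 0, 0, 1, 1, 1, 2, 1⟩, ⟨2, 2, 1, 1, 0, 0, 2, 1, 0⟩, [[1], [0, 2, 0, 1, 0, 2, 0, 0]]⟩]⟩,
  ⟨[⟨1, 1, 1, 2, 0, 1, 2, 1, 1⟩, ⟨0, 2, 0, 1, 1, 0, 0, 0, 1⟩],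
    ⟨2, 0, 0, 0, 2, 0, 0, 0, 1⟩,
    [⟨0, 1, 0, 1, 0, 0, 0, 0, 2⟩, ⟨0, 1, 0, 1, 1, 0, 0, 0, 2⟩, ⟨0, 1, 0, 1, 2, 0, 0, 0, 2⟩, ⟨1, 2, 0, 0, 1, 0, 0, 0, 1⟩, ⟨1, 2, 0, 0, 2, 0, 0, 0, 2⟩],
    [⟨0, 1, 0, 1, 0, 0, 0, 0, 2⟩, ⟨2, 1, 0, 1, 0, 0, 0, 0, 2⟩, ⟨1, 1, 0, 1, 0, 0, 0, 0, 2⟩, ⟨1, 1, 0, 0, 1, 0, 0, 0, 1⟩, ⟨1, 2, 0, 0, 2, 0, 0, 0, 2⟩],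
    [[0, 0, 1], [0, 0, 1], [0, 0, 1], [0, 0, 1], [0, 0, 1]],
    [⟨0, 1, 14, ⟨0, 0, 2, 2, 1, 1, 0, 1, 2⟩, ⟨1, 2, 1, 2, 0, 1, 2, 0, 0⟩, [[2, 1, 0, 1], [0, 2, 0]]⟩,
     ⟨0, 2, 14, ⟨0, 1, 0, 1, 0, 1, 2, 2, 1⟩, ⟨1, 2, 1, 1, 0, 0, 2, 2, 2⟩, [[2, 1, 0], [1, 0, 1, 1, 1]]⟩,
     ⟨0, 3, 14, ⟨0, 0, 1, 2, 1, 1, 0, 2, 1⟩, ⟨2, 2, 2, 1, 0, 2, 1, 0, 0⟩, [[1, 2, 1, 0, 0, 1], [0, 0]]⟩,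
     ⟨0, 4, 14, ⟨0, 1, 1, 2, 2, 0, 1, 0, 0⟩, ⟨0, 0, 1, 0, 2, 2, 1, 1, 1⟩, [[0, 1, 2], [1, 2, 0, 2, 1]]⟩,
     ⟨1, 2, 14, ⟨0, 0, 2, 2, 1, 1, 0, 1, 2⟩, ⟨1, 2, 1, 2, 0, 1, 2, 0, 0⟩, [[2, 1, 0, 1], [0, 2, 0]]⟩,
     ⟨1, 3, 14, ⟨0, 0, 1, 2, 2, 2, 2, 1, 0⟩, ⟨1, 1, 1, 1, 1, 2, 1, 0, 0⟩, [[1, 0, 0], [0, 2, 0, 0, 1, 2, 0, 1]]⟩,
     ⟨1, 4, 14, ⟨1, 0, 2, 0, 1, 1, 1, 0, 0⟩, ⟨0, 0, 1, 1, 1, 2, 2, 0, 1⟩, [[0, 0, 1, 2], [1, 0, 1]]⟩,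
     ⟨2, 3, 14, ⟨0, 0, 1, 2, 1, 1, 0, 2, 1⟩, ⟨2, 2, 2, 1, 0, 2, 1, 0, 0⟩, [[2, 1, 0, 1, 1, 0, 1], [0, 2, 0, 2]]⟩,
     ⟨2, 4, 14, ⟨0, 0, 1, 1, 2, 2, 0, 1, 2⟩, ⟨2, 1, 1, 1, 0, 1, 1, 0, 0⟩, [[1, 0, 1, 2, 1], [0]]⟩,
     ⟨3, 4, 9, ⟨1, 0, 1, 2, 2, 1, 2, 1, 2⟩, ⟨0, 1, 1, 1, 0, 1, 1, 2, 2⟩, [[2], [1, 0]]⟩]⟩,
  ⟨[⟨0, 1, 0, 1, 0, 0, 1, 2, 2⟩, ⟨2, 0, 0, 1, 1, 0, 2, 1, 2⟩],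
    ⟨2, 0, 0, 0, 2, 0, 0, 0, 1⟩,
    [⟨0, 0, 1, 1, 2, 1, 0, 1, 0⟩, ⟨0, 1, 0, 1, 1, 0, 0, 0, 2⟩, ⟨0, 1, 0, 1, 2, 0, 0, 0, 2⟩, ⟨0, 1, 1, 0, 0, 2, 2, 1, 0⟩, ⟨0, 1, 1, 0, 1, 0, 2, 1, 0⟩],
    [⟨2, 1, 1, 0, 0, 1, 1, 0, 0⟩, ⟨2, 1, 0, 1, 0, 0, 0, 0, 2⟩, ⟨1, 1, 0, 1, 0, 0, 0, 0, 2⟩, ⟨1, 1, 2, 1, 1, 0, 0, 2, 0⟩, ⟨0, 1, 2, 0, 1, 0, 1, 2, 0⟩],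
    [[1, 0, 0, 0, 1], [1, 0, 1, 0, 1, 0], [1, 0, 1, 0, 1, 0], [0, 0, 0, 1, 0], [0, 0, 0, 1, 0]],
    [⟨0, 1, 14, ⟨1, 1, 2, 2, 1, 0, 0, 0, 2⟩, ⟨2, 1, 1, 2, 2, 1, 0, 0, 2⟩, [[2, 1, 2, 0, 1], [0]]⟩,
     ⟨0, 2, 14, ⟨1, 0, 0, 1, 2, 2, 1, 2, 1⟩, ⟨1, 0, 0, 1, 1, 1, 0, 1, 2⟩, [[1, 1, 0, 0], [0]]⟩,
     ⟨0, 3, 14, ⟨0, 0, 1, 1, 1, 1, 0, 1, 1⟩, ⟨0, 1, 2, 2, 0, 1, 1, 0, 0⟩, [[0, 2, 0, 0, 0], [1, 2, 0]]⟩,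
     ⟨0, 4, 14, ⟨0, 1, 1, 1, 2, 2, 0, 1, 0⟩, ⟨1, 1, 0, 0, 0, 1, 1, 0, 2⟩, [[1, 0, 0], [2, 1, 0]]⟩,
     ⟨1, 2, 13, ⟨0, 0, 1, 2, 1, 1, 0, 2, 0⟩, ⟨1, 2, 2, 0, 0, 2, 1, 0, 0⟩, [[2, 0, 2, 1], [0, 1, 0]]⟩,
     ⟨1, 3, 14, ⟨1, 1, 2, 1, 0, 2, 1, 1, 1⟩, ⟨1, 1, 2, 1, 2, 0, 1, 0, 2⟩, [[0, 1, 2, 0], [0, 2, 1, 2]]⟩,
     ⟨1, 4, 14, ⟨1, 2, 1, 0, 1, 1, 1, 1, 1⟩, ⟨0, 2, 1, 1, 0, 2, 2, 1, 1⟩, [[0, 2, 0, 0, 0], [1, 0]]⟩,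
     ⟨2, 3, 13, ⟨2, 0, 1, 2, 0, 2, 2, 1, 2⟩, ⟨1, 1, 0, 0, 2, 1, 2, 1, 0⟩, [[2, 1], [1, 0, 2, 0]]⟩,
     ⟨2, 4, 14, ⟨1, 1, 2, 1, 0, 2, 1, 1, 1⟩, ⟨1, 1, 2, 1, 2, 0, 1, 0, 2⟩, [[0, 1, 2, 0], [0, 2, 1, 2]]⟩,
     ⟨3, 4, 12, ⟨0, 0, 1, 2, 1, 1, 1, 1, 1⟩, ⟨0, 1, 2, 2, 2, 2, 1, 0, 0⟩, [[0, 1], [0, 0, 1, 1]]⟩]⟩,
  ⟨[⟨1, 2, 0, 2, 0, 0, 0, 0, 2⟩, ⟨0, 1, 0, 2, 1, 0, 0, 0, 1⟩],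
    ⟨2, 0, 0, 0, 2, 0, 0, 0, 1⟩,
    [⟨0, 0, 1, 0, 1, 2, 2, 0, 0⟩, ⟨0, 1, 0, 0, 0, 1, 1, 0, 0⟩, ⟨0, 1, 0, 1, 0, 0, 0, 0, 2⟩, ⟨0, 1, 1, 0, 1, 0, 2, 0, 0⟩, ⟨0, 1, 1, 0, 2, 1, 2, 0, 0⟩],
    [⟨0, 0, 2, 1, 1, 0, 1, 0, 0⟩, ⟨0, 0, 1, 1, 0, 0, 0, 1, 0⟩, ⟨0, 1, 0, 1, 0, 0, 0, 0, 2⟩, ⟨0, 0, 2, 0, 1, 0, 1, 2, 0⟩, ⟨0, 0, 2, 2, 1, 0, 2, 2, 0⟩],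
    [[0, 1], [0, 1], [1, 1, 1], [0, 1], [0, 1]],
    [⟨0, 1, 14, ⟨1, 2, 2, 0, 0, 2, 0, 1, 2⟩, ⟨1, 1, 1, 0, 2, 1, 0, 2, 0⟩, [[0], [1, 1]]⟩,
     ⟨0, 2, 14, ⟨2, 2, 1, 1, 0, 0, 1, 1, 0⟩, ⟨0, 1, 0, 0, 2, 1, 1, 0, 1⟩, [[0, 1, 1], [2, 1, 0]]⟩,
     ⟨0, 3, 14, ⟨0, 0, 2, 0, 1, 1, 1, 2, 2⟩, ⟨0, 1, 1, 1, 1, 0, 2, 0, 0⟩, [[1, 1, 1], [2, 0, 1]]⟩,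
     ⟨0, 4, 14, ⟨0, 2, 0, 0, 1, 1, 2, 1, 1⟩, ⟨0, 1, 2, 2, 0, 0, 1, 1, 0⟩, [[1], [0, 1, 0]]⟩,
     ⟨1, 2, 14, ⟨1, 2, 2, 0, 0, 2, 0, 1, 2⟩, ⟨1, 1, 1, 0, 2, 1, 0, 2, 0⟩, [[0, 2, 0], [1, 1]]⟩,
     ⟨1, 3, 14, ⟨1, 2, 2, 0, 0, 2, 0, 1, 2⟩, ⟨1, 1, 1, 0, 2, 1, 0, 2, 0⟩, [[0], [1, 1]]⟩,
     ⟨1, 4, 14, ⟨1, 2, 0, 2, 1, 1, 0, 2, 1⟩, ⟨2, 1, 2, 1, 1, 2, 1, 1, 0⟩, [[2, 0, 2, 0, 1], [1, 1]]⟩,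
     ⟨2, 3, 14, ⟨0, 0, 1, 2, 1, 2, 0, 2, 1⟩, ⟨0, 2, 2, 1, 0, 2, 1, 0, 0⟩, [[0, 0, 1, 2, 1], [1, 1]]⟩,
     ⟨2, 4, 14, ⟨1, 1, 1, 1, 1, 0, 1, 2, 1⟩, ⟨1, 1, 2, 2, 0, 1, 1, 2, 0⟩, [[1, 1, 1, 0], [0, 0, 2]]⟩,
     ⟨3, 4, 14, ⟨0, 0, 1, 2, 1, 2, 0, 2, 1⟩, ⟨0, 2, 2, 1, 0, 2, 1, 0, 0⟩, [[2, 0, 2, 2], [1, 1]]⟩]⟩,
  ⟨[⟨2, 0, 1, 0, 2, 1, 2, 1, 1⟩, ⟨0, 1, 0, 1, 0, 0, 2, 1, 2⟩],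
    ⟨2, 2, 2, 0, 1, 2, 0, 0, 2⟩,
    [⟨0, 0, 1, 0, 1, 0, 2, 0, 1⟩, ⟨0, 1, 0, 0, 0, 1, 1, 2, 0⟩, ⟨0, 1, 0, 0, 1, 1, 1, 1, 2⟩, ⟨0, 1, 0, 0, 2, 1, 1, 0, 1⟩, ⟨0, 1, 0, 1, 0, 0, 0, 0, 2⟩],
    [⟨1, 0, 2, 0, 1, 0, 1, 0, 0⟩, ⟨1, 0, 1, 1, 0, 0, 0, 1, 0⟩, ⟨1, 1, 1, 1, 0, 0, 2, 1, 0⟩, ⟨2, 2, 1, 1, 0, 0, 1, 1, 0⟩, ⟨0, 1, 0, 1, 0, 0, 0, 0, 2⟩],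
    [[0, 0, 1, 0, 1, 1, 1], [1, 0, 1], [0, 1, 0, 0, 0, 1, 0, 1], [0, 1, 1], [0, 1, 1, 1, 0]],
    [⟨0, 1, 14, ⟨0, 1, 1, 0, 1, 0, 2, 2, 2⟩, ⟨2, 0, 2, 0, 1, 0, 1, 2, 0⟩, [[2, 1, 1, 1, 0, 1], [1, 1, 0]]⟩,
     ⟨0, 2, 14, ⟨0, 2, 2, 2, 1, 2, 1, 2, 0⟩, ⟨2, 1, 2, 2, 1, 1, 0, 2, 2⟩, [[0, 1, 1, 0, 1], [0, 0]]⟩,
     ⟨0, 3, 14, ⟨0, 1, 0, 1, 1, 1, 1, 1, 0⟩, ⟨2, 0, 1, 1, 0, 0, 0, 1, 2⟩, [[0, 1, 1], [2, 0, 0, 1, 2]]⟩,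
     ⟨0, 4, 14, ⟨0, 1, 2, 0, 2, 0, 2, 1, 1⟩, ⟨2, 1, 2, 0, 2, 0, 2, 2, 0⟩, [[2, 1, 1, 0, 2, 0], [2, 0]]⟩,
     ⟨1, 2, 14, ⟨0, 1, 2, 2, 0, 1, 0, 2, 2⟩, ⟨1, 2, 1, 2, 0, 1, 1, 0, 1⟩, [[0, 2, 1, 0], [2, 0, 2]]⟩,
     ⟨1, 3, 14, ⟨0, 0, 1, 1, 0, 1, 1, 1, 1⟩, ⟨2, 1, 0, 0, 2, 1, 1, 0, 0⟩, [[2, 1, 0, 0, 2], [0, 2, 1, 2]]⟩,
     ⟨1, 4, 14, ⟨0, 2, 0, 0, 1, 2, 1, 1, 1⟩, ⟨2, 1, 1, 2, 0, 0, 2, 2, 0⟩, [[1, 1, 0, 0], [0]]⟩,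
     ⟨2, 3, 14, ⟨1, 2, 0, 1, 0, 0, 2, 2, 1⟩, ⟨0, 1, 0, 2, 1, 0, 2, 2, 1⟩, [[0, 1, 0], [0, 2, 1]]⟩,
     ⟨2, 4, 14, ⟨0, 0, 2, 0, 1, 2, 1, 0, 1⟩, ⟨1, 0, 1, 2, 1, 0, 2, 0, 0⟩, [[2, 0, 1, 0], [1, 2, 2, 1, 0]]⟩,
     ⟨3, 4, 14, ⟨0, 2, 0, 2, 2, 1, 0, 0, 2⟩, ⟨1, 2, 2, 2, 0, 0, 0, 0, 2⟩, [[2, 1, 0, 1], [0, 2, 0, 2]]⟩]⟩,
  ⟨[⟨1, 0, 0, 2, 2, 0, 1, 2, 2⟩, ⟨0, 2, 1, 2, 0, 1, 1, 0, 1⟩],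
    ⟨1, 2, 2, 2, 1, 2, 1, 1, 0⟩,
    [⟨0, 0, 1, 0, 1, 0, 2, 0, 2⟩, ⟨0, 0, 1, 0, 1, 0, 2, 2, 1⟩, ⟨0, 0, 1, 0, 1, 1, 2, 0, 2⟩, ⟨0, 0, 1, 0, 1, 2, 2, 1, 2⟩, ⟨0, 0, 1, 1, 2, 1, 0, 1, 0⟩],
    [⟨2, 0, 2, 0, 1, 0, 1, 0, 0⟩, ⟨1, 2, 2, 0, 1, 0, 1, 0, 0⟩, ⟨2, 0, 2, 2, 1, 0, 1, 0, 0⟩, ⟨0, 1, 2, 1, 1, 0, 1, 0, 0⟩, ⟨2, 1, 1, 0, 0, 1, 1, 0, 0⟩],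
    [[1, 1], [1, 0, 0, 0, 0, 0, 1], [1, 1, 0], [0, 0, 1, 1, 1, 0, 1], [1, 1, 1, 0, 1, 0, 0]],
    [⟨0, 1, 14, ⟨1, 2, 1, 1, 0, 0, 2, 2, 2⟩, ⟨0, 1, 0, 1, 0, 1, 2, 2, 1⟩, [[0, 0, 2, 2], [2]]⟩,
     ⟨0, 2, 14, ⟨1, 2, 1, 1, 0, 0, 2, 2, 2⟩, ⟨0, 1, 0, 1, 0, 1, 2, 2, 1⟩, [[2, 0, 0, 2], [2]]⟩,
     ⟨0, 3, 14, ⟨1, 2, 2, 1, 0, 1, 0, 1, 0⟩, ⟨2, 2, 2, 0, 0, 1, 1, 2, 1⟩, [[0, 2, 1, 0, 0, 1], [2]]⟩,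
     ⟨0, 4, 14, ⟨0, 0, 1, 0, 1, 0, 2, 2, 0⟩, ⟨0, 2, 2, 0, 1, 0, 1, 0, 0⟩, [[2, 0, 0, 2], [2, 2, 2]]⟩,
     ⟨1, 2, 14, ⟨1, 2, 0, 1, 2, 1, 1, 1, 1⟩, ⟨1, 1, 2, 0, 1, 2, 2, 1, 0⟩, [[0, 2], [2, 0, 2, 0]]⟩,
     ⟨1, 3, 14, ⟨1, 1, 0, 0, 1, 0, 1, 1, 1⟩, ⟨1, 2, 0, 0, 1, 0, 2, 0, 1⟩, [[2, 0], [0, 2, 0, 2]]⟩,
     ⟨1, 4, 14, ⟨1, 2, 1, 0, 0, 2, 2, 2, 1⟩, ⟨2, 0, 1, 1, 2, 1, 0, 2, 0⟩, [[1, 2], [0, 1, 2, 0, 2]]⟩,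
     ⟨2, 3, 14, ⟨0, 0, 1, 0, 2, 2, 1, 1, 2⟩, ⟨2, 1, 1, 2, 2, 0, 1, 0, 0⟩, [[0, 2, 0, 1, 0, 0, 2], [2]]⟩,
     ⟨2, 4, 14, ⟨1, 2, 1, 1, 0, 0, 2, 2, 2⟩, ⟨0, 1, 0, 1, 0, 1, 2, 2, 1⟩, [[1, 2, 0, 1, 1], [2]]⟩,
     ⟨3, 4, 14, ⟨1, 0, 1, 1, 1, 0, 0, 0, 1⟩, ⟨1, 0, 2, 2, 1, 1, 0, 0, 1⟩, [[2, 0, 2], [1, 1, 2]]⟩]⟩,
  ⟨[⟨0, 2, 0, 2, 0, 1, 1, 2, 1⟩, ⟨0, 1, 2, 1, 0, 1, 1, 2, 1⟩],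
    ⟨0, 2, 2, 0, 2, 0, 2, 1, 0⟩,
    [⟨0, 0, 1, 0, 1, 0, 2, 0, 0⟩, ⟨0, 1, 0, 0, 0, 1, 1, 0, 2⟩, ⟨0, 1, 0, 0, 0, 1, 1, 1, 2⟩, ⟨0, 1, 0, 0, 1, 1, 1, 2, 0⟩, ⟨0, 1, 0, 0, 2, 1, 1, 1, 1⟩],
    [⟨0, 0, 2, 0, 1, 0, 1, 0, 0⟩, ⟨0, 1, 1, 1, 0, 0, 0, 1, 0⟩, ⟨2, 1, 1, 1, 0, 0, 0, 1, 0⟩, ⟨1, 0, 1, 1, 0, 0, 2, 1, 0⟩, ⟨1, 2, 1, 1, 0, 0, 1, 1, 0⟩],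
    [[0, 1, 0, 0], [0, 0, 1, 0, 1, 1], [0, 0, 1, 0, 1, 0, 0, 0], [0, 1, 0, 0, 1, 0, 1, 0], [0, 0, 0, 1]],
    [⟨0, 1, 14, ⟨0, 2, 2, 0, 2, 0, 2, 1, 2⟩, ⟨1, 1, 2, 0, 2, 0, 2, 1, 0⟩, [[2, 0, 0, 2], [2]]⟩,
     ⟨0, 2, 14, ⟨0, 1, 1, 0, 2, 0, 1, 0, 2⟩, ⟨1, 1, 1, 0, 2, 0, 1, 1, 0⟩, [[1, 0, 0], [2, 2, 1, 0]]⟩,
     ⟨0, 3, 14, ⟨2, 2, 0, 0, 1, 1, 0, 0, 2⟩, ⟨2, 2, 2, 0, 1, 1, 0, 0, 2⟩, [[0], [2, 1, 1, 2, 2]]⟩,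
     ⟨0, 4, 14, ⟨1, 0, 0, 2, 2, 1, 1, 2, 0⟩, ⟨1, 0, 0, 1, 0, 2, 2, 1, 2⟩, [[2, 0, 0, 0], [2]]⟩,
     ⟨1, 2, 14, ⟨0, 1, 0, 0, 1, 1, 1, 2, 2⟩, ⟨0, 1, 1, 1, 0, 0, 2, 1, 0⟩, [[0, 2, 2], [2, 2, 2]]⟩,
     ⟨1, 3, 14, ⟨1, 0, 2, 0, 1, 0, 1, 2, 0⟩, ⟨0, 1, 1, 0, 1, 0, 2, 1, 1⟩, [[0, 1], [1, 1, 2]]⟩,
     ⟨1, 4, 14, ⟨2, 2, 2, 1, 0, 0, 2, 1, 2⟩, ⟨0, 1, 0, 1, 0, 2, 1, 2, 1⟩, [[0, 2, 2, 2], [1, 1]]⟩,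
     ⟨2, 3, 14, ⟨1, 1, 1, 2, 0, 1, 2, 1, 1⟩, ⟨2, 0, 1, 0, 2, 1, 2, 1, 1⟩, [[1, 0, 2, 2, 1], [2]]⟩,
     ⟨2, 4, 14, ⟨1, 0, 2, 2, 2, 1, 2, 0, 0⟩, ⟨0, 0, 2, 2, 2, 0, 2, 0, 2⟩, [[1, 0, 1], [0, 2, 1]]⟩,
     ⟨3, 4, 14, ⟨1, 1, 1, 2, 0, 1, 2, 1, 1⟩, ⟨2, 0, 1, 0, 2, 1, 2, 1, 1⟩, [[1, 0, 2, 2, 1], [2]]⟩]⟩,
  ⟨[⟨0, 1, 2, 1, 0, 2, 2, 2, 1⟩, ⟨1, 2, 2, 0, 0, 2, 2, 2, 2⟩],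
    ⟨2, 0, 2, 0, 2, 2, 0, 0, 1⟩,
    [⟨0, 0, 1, 0, 1, 0, 2, 0, 2⟩, ⟨0, 0, 1, 0, 1, 0, 2, 1, 0⟩, ⟨0, 0, 1, 0, 1, 0, 2, 1, 1⟩, ⟨0, 0, 1, 0, 1, 0, 2, 2, 0⟩, ⟨0, 0, 1, 1, 2, 1, 0, 1, 0⟩],
    [⟨2, 0, 2, 0, 1, 0, 1, 0, 0⟩, ⟨0, 1, 2, 0, 1, 0, 1, 0, 0⟩, ⟨1, 1, 2, 0, 1, 0, 1, 0, 0⟩, ⟨0, 2, 2, 0, 1, 0, 1, 0, 0⟩, ⟨2, 1, 1, 0, 0, 1, 1, 0, 0⟩],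
    [[1, 0, 0, 1, 0, 0, 0, 1, 1], [0, 0, 0, 1, 0, 1, 0, 0], [0, 1, 0, 1, 1, 0, 1, 0, 1, 0], [1, 1, 0, 0, 0, 0, 1, 0, 1], [0, 1, 0, 0, 0, 0]],
    [⟨0, 1, 14, ⟨0, 0, 2, 2, 1, 0, 2, 2, 2⟩, ⟨2, 1, 1, 2, 2, 1, 2, 0, 0⟩, [[1, 2, 2], [2, 1, 0, 1]]⟩,
     ⟨0, 2, 14, ⟨0, 2, 2, 0, 1, 0, 1, 2, 0⟩, ⟨0, 1, 1, 0, 1, 0, 2, 2, 0⟩, [[1, 0, 1, 1, 1], [1, 1]]⟩,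
     ⟨0, 3, 14, ⟨0, 2, 2, 0, 1, 0, 1, 2, 0⟩, ⟨0, 1, 1, 0, 1, 0, 2, 2, 0⟩, [[1, 0, 0, 1, 1, 1], [1, 1]]⟩,
     ⟨0, 4, 14, ⟨1, 1, 1, 2, 2, 1, 2, 0, 2⟩, ⟨1, 1, 2, 1, 0, 1, 2, 2, 0⟩, [[1, 2, 1, 0], [0, 2, 0, 2]]⟩,
     ⟨1, 2, 14, ⟨1, 1, 2, 2, 2, 2, 0, 2, 0⟩, ⟨2, 1, 1, 0, 0, 2, 1, 1, 0⟩, [[0, 1, 0], [2, 2, 1, 0]]⟩,
     ⟨1, 3, 14, ⟨0, 0, 2, 2, 1, 0, 2, 2, 2⟩, ⟨2, 1, 1, 2, 2, 1, 2, 0, 0⟩, [[1, 2, 2], [1, 2, 1, 2, 0]]⟩,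
     ⟨1, 4, 14, ⟨1, 2, 0, 2, 1, 2, 2, 2, 2⟩, ⟨1, 2, 1, 0, 2, 1, 2, 2, 0⟩, [[2, 2, 1], [1, 1, 2, 0]]⟩,
     ⟨2, 3, 14, ⟨0, 2, 2, 0, 1, 0, 1, 2, 0⟩, ⟨0, 1, 1, 0, 1, 0, 2, 2, 0⟩, [[1, 0, 1, 1, 1], [1, 1]]⟩,
     ⟨2, 4, 14, ⟨1, 0, 2, 2, 2, 1, 0, 1, 2⟩, ⟨0, 2, 2, 2, 2, 0, 2, 2, 2⟩, [[1, 0, 0, 1], [0]]⟩,
     ⟨3, 4, 14, ⟨0, 2, 0, 2, 0, 1, 2, 2, 0⟩, ⟨1, 0, 2, 2, 0, 0, 1, 1, 2⟩, [[1, 2, 2], [0, 2, 2, 1, 0]]⟩]⟩,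
  ⟨[⟨2, 0, 1, 1, 1, 2, 0, 0, 2⟩, ⟨2, 0, 0, 0, 2, 2, 1, 2, 0⟩],
    ⟨2, 0, 2, 0, 2, 0, 0, 0, 1⟩,
    [⟨0, 0, 1, 0, 1, 0, 2, 1, 0⟩, ⟨0, 1, 0, 0, 0, 1, 1, 0, 0⟩, ⟨0, 1, 0, 0, 0, 1, 1, 2, 0⟩, ⟨0, 1, 0, 0, 1, 1, 1, 2, 0⟩, ⟨0, 1, 0, 0, 2, 1, 1, 2, 0⟩],
    [⟨0, 1, 2, 0, 1, 0, 1, 0, 0⟩, ⟨0, 0, 1, 1, 0, 0, 0, 1, 0⟩, ⟨1, 0, 1, 1, 0, 0, 0, 1, 0⟩, ⟨1, 0, 1, 1, 0, 0, 2, 1, 0⟩, ⟨1, 0, 1, 1, 0, 0, 1, 1, 0⟩],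
    [[1, 0, 1, 1, 0, 1, 0, 0, 1], [1, 1, 1, 1], [0, 0, 1, 0, 0, 1, 1, 0, 1], [1, 0, 1, 1, 0, 1, 1], [0, 1, 1, 0, 1, 0, 0, 1, 0]],
    [⟨0, 1, 14, ⟨0, 1, 0, 0, 1, 2, 2, 1, 0⟩, ⟨1, 0, 2, 1, 0, 0, 1, 2, 0⟩, [[0, 1, 2], [1, 2, 2, 1]]⟩,
     ⟨0, 2, 14, ⟨0, 1, 2, 0, 1, 0, 1, 2, 1⟩, ⟨1, 0, 1, 0, 1, 0, 2, 1, 0⟩, [[0, 2, 0, 1, 0, 2], [2, 2]]⟩,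
     ⟨0, 3, 14, ⟨0, 2, 1, 2, 0, 0, 1, 2, 0⟩, ⟨0, 2, 0, 0, 2, 2, 1, 2, 2⟩, [[0, 2, 0, 1, 1], [2, 2]]⟩,
     ⟨0, 4, 14, ⟨0, 2, 1, 2, 0, 2, 0, 0, 2⟩, ⟨0, 2, 1, 2, 0, 2, 0, 0, 2⟩, [[1, 1, 2, 1, 0, 2, 1], [2, 2]]⟩,
     ⟨1, 2, 14, ⟨0, 0, 1, 1, 1, 1, 2, 0, 2⟩, ⟨2, 0, 2, 0, 1, 1, 1, 0, 0⟩, [[0, 2, 2, 0], [0, 2, 0]]⟩,
     ⟨1, 3, 14, ⟨0, 1, 0, 1, 0, 2, 1, 0, 1⟩, ⟨0, 2, 2, 1, 0, 0, 0, 1, 2⟩, [[2, 2, 0, 2, 2], [0, 0, 1]]⟩,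
     ⟨1, 4, 14, ⟨0, 1, 2, 0, 1, 0, 1, 2, 1⟩, ⟨1, 0, 1, 0, 1, 0, 2, 1, 0⟩, [[2, 2, 2, 2, 0], [2, 2]]⟩,
     ⟨2, 3, 14, ⟨0, 1, 2, 1, 1, 0, 0, 1, 1⟩, ⟨1, 1, 1, 2, 0, 2, 1, 0, 2⟩, [[0, 2, 2, 1], [2, 0, 2, 0]]⟩,
     ⟨2, 4, 14, ⟨0, 1, 2, 1, 0, 2, 1, 2, 2⟩, ⟨2, 2, 2, 0, 1, 2, 2, 1, 2⟩, [[0, 2, 2, 1, 1, 0], [2, 2]]⟩,
     ⟨3, 4, 14, ⟨0, 1, 2, 1, 1, 0, 0, 1, 1⟩, ⟨1, 1, 1, 2, 0, 2, 1, 0, 2⟩, [[0, 2, 2, 1], [2, 0, 2, 0]]⟩]⟩]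

/-- generators of the whole group -/
def topGens : List C := [⟨2, 2, 1, 0, 2, 1, 0, 2, 2⟩, ⟨1, 0, 1, 1, 0, 2, 1, 2, 0⟩]

/-- words for the transvections -/
def trWords : List (List ℕ) := [[], [0, 1, 0, 0, 1, 0, 0, 0, 1, 0, 0, 0, 0, 0, 0], [0, 0, 1, 0, 1, 0, 0, 0, 0, 0, 0, 1], [0, 0, 1, 0, 0, 1], [], [1, 0, 0, 1, 0, 1, 1, 0, 1, 0, 1, 1, 0], [1, 1, 0, 1, 0, 0, 1, 0, 1, 1], [1, 0, 1, 0, 1, 0, 1, 0, 0, 0, 1, 0], []]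

/-- generators of the classes -/
def tab : List (List C) := nodes.map Node.gens ++ [topGens]

theorem mem_prs {i j : ℕ} (hj : j < 5) (hij : i < j) : (i, j) ∈ prs := by
  have key : ∀ j < 5, ∀ i < j, (i, j) ∈ prs := by decide
  exact key j hj i hij

theorem step {tb : List (List C)} {k : ℕ} {n : Node} (hn : chkNode tb k n = true)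
    (ih : ∀ k', k < k' → k' < tb.length → ∀ K, PK K → (∀ h ∈ tb.getD k' [], C.toM h ∈ K) → Full K)
    {K : Set M} (hK : PK K) (hg : ∀ h ∈ n.gens, C.toM h ∈ K) : Full K := by
  simp only [chkNode, Bool.and_eq_true, Bool.not_eq_true', beq_iff_eq, List.all_eq_true, List.mem_range,
    List.any_eq_true] at hn
  obtain ⟨⟨⟨h1, h2⟩, h3⟩, h4⟩ := hn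
  obtain ⟨i, j, hij, hh⟩ := hK.pig (C.toM n.x) (fun t => C.toM (n.a.getD t C.one)) (fun t => C.toM (n.ai.getD t C.one))
    (C.toM_ne_one h1) (C.det_toM h2) (fun t => C.det_toM (h3 t t.2).1.1)
    (fun t => by rw [← C.toM_mul, C.eq_of_eqb (h3 t t.2).1.2, C.toM_one])
    (fun t => by
      rw [← C.toM_mul, ← C.toM_mul, ← C.eq_of_eqb (h3 t t.2).2]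
      exact ev_mem hK hg _)
  obtain ⟨b, hb, ⟨hbi, hbj⟩, hchk⟩ := h4 (i, j) (mem_prs j.2 hij)
  simp only [chkBr, Bool.and_eq_true, decide_eq_true_eq] at hchk
  obtain ⟨⟨⟨h5, h6⟩, h7⟩, h8⟩ := hchk
  rw [hbi, hbj] at h8
  have hgg : C.toM b.g * C.toM b.gi = 1 := by rw [← C.toM_mul, C.eq_of_eqb h7, C.toM_one]
  refine Full.of_conj hgg (ih b.tgt h5 h6 _ (hK.conj hgg) ?_)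
  intro h hh'
  rw [mem_cjM]
  refine chkWords_spec hK ?_ h8 h hh'
  intro g hg'
  rcases List.mem_cons.1 hg' with rfl | hg'
  · rw [C.toM_mul]; exact hh
  · exact hg g hg'

theorem nodes_ok : (List.range nodes.length).all (fun k => match nodes[k]? with
    | some n => chkNode tab k n
    | none => false) = true := by
  decide +kernel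

theorem tr_words : ∀ (i j : Fin 3) (hij : i ≠ j),
    toM (tr i j hij 1) = C.toM (ev topGens (trWords.getD (3 * (i : ℕ) + j) [])) := by
  decide +kernel

theorem tab_length : tab.length = nodes.length + 1 := by simp [tab]

theorem main (k : ℕ) (hk : k < tab.length) : ∀ K, PK K → (∀ h ∈ tab.getD k [], C.toM h ∈ K) → Full K := by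
  obtain ⟨d, hd⟩ : ∃ d, k + d = nodes.length := ⟨nodes.length - k, by have := tab_length; omega⟩
  induction d using Nat.strong_induction_on generalizing k with
  | _ d ih =>
    intro K hK hg
    rcases Nat.eq_zero_or_pos d with h0 | h0
    · have hk' : k = nodes.length := by omega
      have h1 : tab.getD k [] = topGens := by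
        rw [hk', tab, List.getD_eq_getElem?_getD, List.getElem?_append_right (by simp)]
        simp
      rw [h1] at hg
      refine full_of_tr hK ?_
      intro i j hij
      rw [tr_words i j hij]
      exact ev_mem hK hg _
    · have hk' : k < nodes.length := by omega
      have h1 : tab.getD k [] = (nodes[k]).gens := by
        rw [tab, List.getD_eq_getElem?_getD, List.getElem?_append_left (by simpa using hk'), List.getElem?_map,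
          List.getElem?_eq_getElem hk']
        rfl
      rw [h1] at hg
      have h2 := List.all_eq_true.1 nodes_ok k (List.mem_range.2 hk')
      rw [List.getElem?_eq_getElem hk'] at h2
      refine step h2 ?_ hK hg
      intro k' hkk' hk'' K' hK' hg'
      have hl := tab_length
      exact ih (nodes.length - k') (by omega) k' hk'' (by omega) K' hK' hg'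

end Cfsg.Agent.H752.LThree
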